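import Groth.Prelude.Def_ArSurf
import Groth.Prelude.Def_Neron
import Groth.Agent.S11555
import Groth.Agent.S15544
import Groth.Agent.L03.RegularNormal
import Groth.Agent.L20.QfCurve
import Groth.Agent.L21.Smooth.Scheme
import Mathlib.RingTheory.Ideal.KrullsHeightTheorem

/-!
# Smooth proper surfaces over Dedekind schemes are relatively minimal
-/

set_option autoImplicit false
set_option linter.style.haveILetI false
set_option backward.isDefEq.respectTransparency false

universe u

open CategoryTheory CategoryTheory.Limits AlgebraicGeometry TopologicalSpace Topology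

noncomputable section

namespace Groth.L05.SmoothRelMin

/-- There is no chain of four points in a space of dimension at most two. -/
theorem eq_of_chain {X : Scheme.{u}} (hd : topologicalKrullDim X ≤ 2) {a b c d : X} (hab : a ⤳ b) (hbc : b ⤳ c)
    (hcd : c ⤳ d) (h1 : a ≠ b) (h3 : c ≠ d) : b = c := by
  by_contra h2
  let C : X → IrreducibleCloseds X := fun x => ⟨closure {x}, isIrreducible_singleton.closure, isClosed_closure⟩
  have hlt : ∀ x y : X, x ⤳ y → x ≠ y → C y < C x := fun x y hxy hne => by
    refine lt_of_le_of_ne (specializes_iff_closure_subset.1 hxy) fun he => hne ?_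
    exact (inseparable_iff_closure_eq.2 (congrArg (fun Z : IrreducibleCloseds X => (Z : Set X)) he).symm).eq
  let S : LTSeries (IrreducibleCloseds X) :=
    (((RelSeries.singleton _ (C d)).snoc (C c) (hlt c d hcd h3)).snoc (C b)
      (by simpa using hlt b c hbc h2)).snoc (C a) (by simpa using hlt a b hab h1)
  have h := le_trans (Order.LTSeries.length_le_krullDim S) hd
  have hS : S.length = 3 := rfl
  rw [hS] at h
  exact absurd h (by decide)

/-- In a scheme with a domain as stalk at `z` the generalisations of `z` have a least element. -/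
theorem exists_least_generization {Z : Scheme.{u}} (z : Z) [IsDomain (Z.presheaf.stalk z)] :
    ∃ η : Z, ∀ w : Z, w ⤳ z → η ⤳ w := by
  refine ⟨Z.fromSpecStalk z (⊥ : PrimeSpectrum (Z.presheaf.stalk z)), fun w hw => ?_⟩
  obtain ⟨p, rfl⟩ : w ∈ Set.range (Z.fromSpecStalk z) := by rw [Scheme.range_fromSpecStalk]; exact hw
  exact ((PrimeSpectrum.le_iff_specializes _ p).1 bot_le).map (Z.fromSpecStalk z).continuous

variable {R : Type u} [CommRing R] [IsDedekindDomain R]

/-- A point of a closed fibre without other generalisation in this fibre has local dimension at most one. -/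
theorem ringKrullDim_stalk_le_one {Y : Scheme.{u}} (q : Y ⟶ Spec (CommRingCat.of R)) [IsLocallyNoetherian Y]
    (y : Y) (hs : (q y).asIdeal ≠ ⊥) (hmax : ∀ w : Y, q w = q y → w ⤳ y → w = y) :
    ringKrullDim (Y.presheaf.stalk y) ≤ 1 := by
  let φ := Spec.preimage (Y.fromSpecStalk y ≫ q)
  obtain ⟨π, hπ, hπ0⟩ := Submodule.exists_mem_ne_zero_of_ne_bot hs
  let A := Y.presheaf.stalk y
  have hφ : ∀ p : PrimeSpectrum A, (q (Y.fromSpecStalk y p)).asIdeal = p.asIdeal.comap φ.hom := fun p => by
    rw [← Scheme.Hom.comp_apply, show Y.fromSpecStalk y ≫ q = Spec.map φ from (Spec.map_preimage _).symm]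
    rfl
  have hclosed : Y.fromSpecStalk y (IsLocalRing.closedPoint A) = y := Scheme.fromSpecStalk_closedPoint
  have hmin : IsLocalRing.maximalIdeal A ∈ (Ideal.span {φ.hom π}).minimalPrimes := by
    refine ⟨⟨inferInstance, ?_⟩, ?_⟩
    · rw [Ideal.span_le, Set.singleton_subset_iff]
      have h := hφ (IsLocalRing.closedPoint A)
      rw [hclosed] at h
      rw [h] at hπ
      exact hπ
    · rintro P ⟨hP, hπP⟩ -
      let p : PrimeSpectrum A := ⟨P, hP⟩
      have hsp : Y.fromSpecStalk y p ⤳ y := by
        have : Y.fromSpecStalk y p ∈ Set.range (Y.fromSpecStalk y) := ⟨p, rfl⟩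
        rwa [Scheme.range_fromSpecStalk] at this
      have hle : (q (Y.fromSpecStalk y p)).asIdeal ≤ (q y).asIdeal :=
        (PrimeSpectrum.le_iff_specializes _ _).2 (hsp.map q.continuous)
      have hne : (q (Y.fromSpecStalk y p)).asIdeal ≠ ⊥ := fun h => hπ0 <| by
        rw [hφ] at h
        exact (Ideal.mem_bot.1 (h ▸ (show π ∈ Ideal.comap φ.hom P from hπP (Ideal.mem_span_singleton_self _))))
      have he : q (Y.fromSpecStalk y p) = q y := PrimeSpectrum.ext
        (((q (Y.fromSpecStalk y p)).isPrime.isMaximal hne).eq_of_le (q y).isPrime.ne_top hle)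
      have hp : p = IsLocalRing.closedPoint A :=
        (Y.fromSpecStalk y).isEmbedding.injective ((hmax _ he hsp).trans hclosed.symm)
      exact le_of_eq (congrArg PrimeSpectrum.asIdeal hp).symm
  rw [← IsLocalRing.maximalIdeal_height_eq_ringKrullDim]
  exact_mod_cast Ideal.height_le_one_of_isPrincipal_of_mem_minimalPrimes (Ideal.span {φ.hom π}) _ hmin

theorem injective_of_isField {A B : Type u} [CommRing A] [CommRing B] [Nontrivial B] (hA : IsField A) (φ : A →+* B) :
    Function.Injective φ := by
  refine (injective_iff_map_eq_zero φ).2 fun a ha => ?_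
  by_contra h0
  obtain ⟨b, hb⟩ := hA.mul_inv_cancel h0
  exact one_ne_zero (by rw [← map_one φ, ← hb, map_mul, ha, zero_mul])

/-- The points over the generic point lift to the generic fibre. -/
theorem mem_range_fst (X : Over (Spec (CommRingCat.of R))) (x : X.left) (hx : (X.hom x).asIdeal = ⊥) :
    x ∈ Set.range (pullback.fst X.hom (Neron.genPt R)) := by
  rw [Scheme.Pullback.range_fst]
  refine ⟨IsLocalRing.closedPoint (FractionRing R), PrimeSpectrum.ext ?_⟩
  rw [hx]
  show Ideal.comap (algebraMap R (FractionRing R)) (IsLocalRing.maximalIdeal (FractionRing R)) = ⊥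
  rw [IsLocalRing.maximalIdeal_eq_bot, ← RingHom.ker_eq_comap_bot]
  exact (RingHom.injective_iff_ker_eq_bot _).1 (IsFractionRing.injective R (FractionRing R))

theorem isIso_of_smooth (X Y : Over (Spec (CommRingCat.of R))) [IsIntegral X.left] [IsProper X.hom] [Smooth X.hom]
    [IsProper Y.hom] [Flat Y.hom] (hd : topologicalKrullDim X.left ≤ 2)
    (hY : ∀ y : Y.left, IsRegularLocalRing (Y.left.presheaf.stalk y)) (g : X ⟶ Y)
    (hg : IsIso ((Neron.genericFibre R).map g)) : IsIso g := by
  haveI : IsPreimmersion (Neron.genPt R) := IsPreimmersion.of_isLocalization (nonZeroDivisors R)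
  haveI := hg
  let jX := pullback.fst X.hom (Neron.genPt R)
  let jY := pullback.fst Y.hom (Neron.genPt R)
  haveI : IsPreimmersion jX := MorphismProperty.pullback_fst (P := @IsPreimmersion) _ _ inferInstance
  haveI : IsPreimmersion jY := MorphismProperty.pullback_fst (P := @IsPreimmersion) _ _ inferInstance
  let e := ((Neron.genericFibre R).map g).left
  haveI : IsIso e := inferInstanceAs (IsIso ((Over.forget _).map ((Neron.genericFibre R).map g)))
  have hej : e ≫ jY = jX ≫ g.left := pullback.lift_fst _ _ _
  haveI : IsLocallyNoetherian X.left := LocallyOfFiniteType.isLocallyNoetherian X.hom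
  haveI : IsLocallyNoetherian Y.left := LocallyOfFiniteType.isLocallyNoetherian Y.hom
  haveI : IsProper (g.left ≫ Y.hom) := by rw [Over.w g]; infer_instance
  haveI : IsProper g.left := IsProper.of_comp g.left Y.hom
  have hw : ∀ x : X.left, Y.hom (g.left x) = X.hom x := fun x => by rw [← Scheme.Hom.comp_apply, Over.w]
  -- over the generic point the map is bijective
  have hgen : ∀ y : Y.left, (Y.hom y).asIdeal = ⊥ → ∃! x : X.left, g.left x = y := fun y hy => by
    obtain ⟨b, rfl⟩ := mem_range_fst Y y hy
    obtain ⟨a, rfl⟩ := e.homeomorph.surjective b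
    have he : g.left (jX a) = jY (e a) := by rw [← Scheme.Hom.comp_apply, ← hej, Scheme.Hom.comp_apply]; rfl
    refine ⟨jX a, he, fun x hx => ?_⟩
    obtain ⟨a', rfl⟩ := mem_range_fst X x (by rw [← hw, hx]; exact hy)
    rw [← Scheme.Hom.comp_apply, ← hej, Scheme.Hom.comp_apply] at hx
    exact congrArg _ (e.homeomorph.injective (jY.isEmbedding.injective hx))
  let η₀ : Spec (CommRingCat.of R) := (⊥ : PrimeSpectrum R)
  have hη₀ : ∀ s : Spec (CommRingCat.of R), η₀ ⤳ s := fun s => (PrimeSpectrum.le_iff_specializes _ _).1 bot_le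
  have hsurj : Function.Surjective g.left := fun y => by
    obtain ⟨w, hwy, hw0⟩ := Flat.generalizingMap Y.hom (hη₀ (Y.hom y))
    obtain ⟨x, hx, -⟩ := hgen w (congrArg PrimeSpectrum.asIdeal hw0)
    exact hwy.mem_closed g.left.isClosedMap.isClosed_range ⟨x, hx⟩
  haveI : IrreducibleSpace Y.left := by
    have h := (IrreducibleSpace.isIrreducible_univ X.left).image g.left g.left.continuous.continuousOn
    rw [Set.image_univ, hsurj.range_eq] at h
    exact { isPreirreducible_univ := h.2, toNonempty := ⟨g.left (genericPoint X.left)⟩ }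
  have hYn : Pi1.IsNormalScheme Y.left := fun y => by
    haveI := hY y
    haveI := Groth.L01.isDomain_of_regular (Y.left.presheaf.stalk y)
    exact ⟨inferInstance, Groth.L03.RegularNormal.isIntegrallyClosed _⟩
  haveI : IsReduced Y.left := by
    haveI : ∀ y : Y.left, _root_.IsReduced (Y.left.presheaf.stalk y) := fun y => by
      haveI := (hYn y).1; infer_instance
    exact isReduced_of_isReduced_stalk Y.left
  haveI : IsIntegral Y.left := isIntegral_of_irreducibleSpace_of_isReduced Y.left
  have hξ : g.left (genericPoint X.left) = genericPoint Y.left := by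
    refine ((genericPoint_spec X.left).image g.left.continuous).eq ?_
    show IsGenericPoint (genericPoint Y.left) (closure (g.left '' Set.univ))
    rw [Set.image_univ, hsurj.range_eq, closure_univ]
    exact genericPoint_spec Y.left
  have hξ0 : (X.hom (genericPoint X.left)).asIdeal = ⊥ := by
    obtain ⟨w, hwy, hw0⟩ := Flat.generalizingMap X.hom (hη₀ (X.hom (genericPoint X.left)))
    have : w = genericPoint X.left := (hwy.antisymm (genericPoint_specializes w)).eq
    rw [← this, hw0]
    rfl
  have hbir : Function.Bijective (g.left.stalkMap (genericPoint X.left)) := by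
    obtain ⟨a, ha⟩ := mem_range_fst X _ hξ0
    have hFY : IsField (Y.left.presheaf.stalk (g.left (genericPoint X.left))) := by
      rw [hξ]; exact Field.toIsField Y.left.functionField
    have hFX : IsField (X.left.presheaf.stalk (jX a)) := by rw [ha]; exact Field.toIsField X.left.functionField
    refine ⟨injective_of_isField hFY _, ?_⟩
    have key : ∀ φ : pullback X.hom (Neron.genPt R) ⟶ Y.left, φ = e ≫ jY → Function.Surjective (φ.stalkMap a) := by
      rintro _ rfl
      rw [Scheme.Hom.stalkMap_comp]
      exact (ConcreteCategory.bijective_of_isIso (e.stalkMap a)).2.comp (jY.stalkMap_surjective (e a))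
    have h := key (jX ≫ g.left) hej.symm
    rw [Scheme.Hom.stalkMap_comp] at h
    rw [← ha]
    intro u
    obtain ⟨v, hv⟩ := h (jX.stalkMap a u)
    exact ⟨v, injective_of_isField hFX (jX.stalkMap a).hom hv⟩
  obtain ⟨V, hVi, hViso, hVdim⟩ := Groth.Agent.S11555.result g.left hYn hξ hbir
  suffices hV : V = ⊤ by
    subst hV
    haveI := hVi
    haveI : IsIso (g.left ⁻¹ᵁ (⊤ : Y.left.Opens)).ι := inferInstanceAs (IsIso X.left.topIso.hom)
    haveI : IsIso (⊤ : Y.left.Opens).ι := inferInstanceAs (IsIso Y.left.topIso.hom)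
    haveI : IsIso g.left := by
      have h := morphismRestrict_ι g.left ⊤
      rw [show g.left = inv (g.left ⁻¹ᵁ ⊤).ι ≫ (g.left ∣_ ⊤) ≫ (⊤ : Y.left.Opens).ι by rw [h, IsIso.inv_hom_id_assoc]]
      infer_instance
    haveI : IsIso ((Over.forget (Spec (CommRingCat.of R))).map g) := this
    exact isIso_of_reflects_iso g (Over.forget _)
  refine eq_top_iff.2 fun y _ => ?_
  by_contra hyV
  have hnoniso := hViso y hyV
  let ι := g.left.fiberι y
  haveI : LocallyOfFiniteType (g.left.fiberToSpecResidueField y) :=
    MorphismProperty.pullback_snd (P := @LocallyOfFiniteType) _ _ inferInstance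
  haveI : IsLocallyNoetherian (g.left.fiber y) :=
    LocallyOfFiniteType.isLocallyNoetherian (g.left.fiberToSpecResidueField y)
  have hι : ∀ a, g.left (ι a) = y := fun a => by
    have h : ι a ∈ Set.range ι := ⟨a, rfl⟩
    rwa [Scheme.Hom.range_fiberι] at h
  have hmemF : ∀ x : X.left, g.left x = y → x ∈ Set.range ι := fun x hx => by
    rw [Scheme.Hom.range_fiberι]; exact hx
  by_cases hs : (Y.hom y).asIdeal = ⊥
  · obtain ⟨x, hx, hx'⟩ := hgen y hs
    obtain ⟨a, -⟩ := hmemF x hx
    haveI : Subsingleton (g.left.fiber y) :=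
      ⟨fun b c => ι.isEmbedding.injective ((hx' _ (hι b)).trans (hx' _ (hι c)).symm)⟩
    refine hnoniso a ?_
    rw [Subsingleton.eq_univ_of_nonempty (Set.singleton_nonempty a)]
    exact isOpen_univ
  let s := Y.hom y
  have hFs : ∀ x : X.left, g.left x = y → X.hom x = s := fun x hx => by rw [← hw, hx]
  -- every point of the fibre has a non-closed generisation in the fibre
  have hη : ∀ z : X.left, g.left z = y → ∃ η d : X.left, g.left η = y ∧ η ⤳ z ∧ η ⤳ d ∧ η ≠ d := by
    intro z hz
    by_cases hzc : ∀ d, z ⤳ d → d = z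
    · obtain ⟨a, rfl⟩ := hmemF z hz
      have hcl : IsClosed ({a} : Set (g.left.fiber y)) := by
        refine isClosed_iff_nhds.2 fun b hb => ?_
        have hb' : b ∈ closure ({a} : Set (g.left.fiber y)) := mem_closure_iff_nhds.2 hb
        exact ι.isEmbedding.injective (hzc _ ((specializes_iff_mem_closure.2 hb').map ι.continuous))
      have hno := hnoniso a
      contrapose! hno
      exact Groth.L20.QfCurve.isOpen_singleton hcl fun b hb => ι.isEmbedding.injective <| by
        by_contra hne
        exact hne (hno (ι b) (ι a) (hι b) (hb.map ι.continuous) (hb.map ι.continuous))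
    · push_neg at hzc
      obtain ⟨d, hd, hdz⟩ := hzc
      exact ⟨z, d, hz, specializes_refl z, hd, fun h => hdz h.symm⟩
  -- the fibre is stable under generisation in the closed fibre
  have hstable : ∀ z w : X.left, g.left z = y → X.hom w = s → w ⤳ z → g.left w = y := by
    intro z w hz hws hwz
    obtain ⟨η, d, hηy, hηz, hηd, hne⟩ := hη z hz
    let jS := X.hom.fiberι s
    have hmem : ∀ x : X.left, X.hom x = s → x ∈ Set.range jS := fun x hx => by
      rw [Scheme.Hom.range_fiberι]; exact hx
    obtain ⟨w', rfl⟩ := hmem w hws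
    obtain ⟨η', rfl⟩ := hmem η (hFs η hηy)
    obtain ⟨z', rfl⟩ := hmem z (hFs z hz)
    haveI : Smooth (X.hom.fiberToSpecResidueField s) :=
      MorphismProperty.pullback_snd (P := @Smooth) _ _ inferInstance
    haveI := Groth.L21.Smooth.isDomain_stalk (k := (Spec (CommRingCat.of R)).residueField s)
      (X.hom.fiberToSpecResidueField s) z'
    obtain ⟨m, hm⟩ := exists_least_generization z'
    have h1 : jS m ⤳ jS η' := (hm η' ((jS.isEmbedding.isInducing.specializes_iff).1 hηz)).map jS.continuous
    have hms : X.hom (jS m) = s := by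
      have h : jS m ∈ Set.range jS := ⟨m, rfl⟩
      rwa [Scheme.Hom.range_fiberι] at h
    have h2 : jS m = jS η' := eq_of_chain hd (genericPoint_specializes _) h1 hηd
      (fun h => hs (by
        have h' := congrArg PrimeSpectrum.asIdeal hms
        rw [← h] at h'
        exact h'.symm.trans hξ0))
      hne
    have h3 : jS η' ⤳ jS w' := h2 ▸ (hm w' ((jS.isEmbedding.isInducing.specializes_iff).1 hwz)).map jS.continuous
    have ha := h3.map g.left.continuous
    have hb := hwz.map g.left.continuous
    rw [hηy] at ha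
    rw [hz] at hb
    exact (hb.antisymm ha).eq
  have hdim := ringKrullDim_stalk_le_one Y.hom y hs fun w hws hwy => by
    obtain ⟨x, rfl⟩ := hsurj w
    obtain ⟨z, hxz, hz⟩ : ∃ z, x ⤳ z ∧ g.left z = y := by
      have h := hwy.mem_closed (g.left.isClosedMap _ (isClosed_closure (s := ({x} : Set X.left))))
        ⟨x, subset_closure rfl, rfl⟩
      obtain ⟨z, hz, hzy⟩ := h
      exact ⟨z, specializes_iff_mem_closure.2 hz, hzy⟩
    exact hstable z x hz (by rw [← hw]; exact hws) hxz
  exact absurd ((hVdim y hyV).trans hdim) (by decide)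

end Groth.L05.SmoothRelMin
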